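import Groth.Agent.Lib.GeomUnib.Radicial
import Groth.Agent.Lib.GeomUnib5.Descent
import Mathlib.RingTheory.Spectrum.Prime.Chevalley
import Mathlib.RingTheory.Spectrum.Prime.Noetherian
import Mathlib.RingTheory.FiniteType
import Mathlib.RingTheory.TensorProduct.Finite

/-! # The geometrically unibranch locus of an irreducible Noetherian spectrum is constructible -/

set_option autoImplicit false
set_option backward.isDefEq.respectTransparency false
universe u

open TensorProduct Topology

namespace GrothLib.GeomUnibConstr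

variable {B T : Type u} [CommRing B] [CommRing T] [Algebra B T]

/-- The differences `x ⊗ 1 - 1 ⊗ x`. -/
def diffs (B T : Type u) [CommRing B] [CommRing T] [Algebra B T] : Set (T ⊗[B] T) :=
  Set.range fun x => x ⊗ₜ[B] (1 : T) - (1 : T) ⊗ₜ x

/-- Radicial at `q`. -/
def RadicAt (B T : Type u) [CommRing B] [CommRing T] [Algebra B T] (q : Ideal B) : Prop :=
  ∀ (K : Type u) [Field K] (f g : T →+* K), f.comp (algebraMap B T) = g.comp (algebraMap B T) →
    RingHom.ker (f.comp (algebraMap B T)) = q → f = g

theorem radicAt_iff (q : PrimeSpectrum B) :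
    RadicAt B T q.asIdeal ↔ q ∉ PrimeSpectrum.comap (algebraMap B (T ⊗[B] T)) '' (PrimeSpectrum.zeroLocus (diffs B T))ᶜ := by
  constructor
  · rintro h ⟨J, hJ, rfl⟩
    apply hJ
    rintro _ ⟨x, rfl⟩
    let π := algebraMap (T ⊗[B] T) J.asIdeal.ResidueField
    let f : T →+* J.asIdeal.ResidueField :=
      π.comp (Algebra.TensorProduct.includeLeft (R := B) (S := B) (B := T)).toRingHom
    let g : T →+* J.asIdeal.ResidueField := π.comp (Algebra.TensorProduct.includeRight (R := B) (A := T)).toRingHom
    have hf : f.comp (algebraMap B T) = π.comp (algebraMap B (T ⊗[B] T)) := RingHom.ext fun b => congrArg π rfl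
    have hg : g.comp (algebraMap B T) = π.comp (algebraMap B (T ⊗[B] T)) := RingHom.ext fun b => congrArg π
      ((Algebra.TensorProduct.includeRight (R := B) (A := T) (B := T)).commutes b)
    have hfg : f = g := h _ f g (hf.trans hg.symm) (by
      rw [hf, ← RingHom.comap_ker, Ideal.ker_algebraMap_residueField]
      rfl)
    show _ ∈ J.asIdeal
    rw [← Ideal.ker_algebraMap_residueField J.asIdeal, RingHom.mem_ker, map_sub, sub_eq_zero]
    exact RingHom.congr_fun hfg x
  · intro h K _ f g hfg hq
    refine RingHom.ext fun x => ?_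
    letI : Algebra B K := (f.comp (algebraMap B T)).toAlgebra
    let fa : T →ₐ[B] K := { f with commutes' := fun b => rfl }
    let ga : T →ₐ[B] K := { g with commutes' := fun b => (RingHom.congr_fun hfg b).symm }
    let m : T ⊗[B] T →ₐ[B] K := Algebra.TensorProduct.lift fa ga (fun _ _ => Commute.all _ _)
    haveI := RingHom.ker_isPrime m.toRingHom
    have hJ : PrimeSpectrum.comap (algebraMap B (T ⊗[B] T)) ⟨RingHom.ker m.toRingHom, inferInstance⟩ = q :=
      PrimeSpectrum.ext (by
        show (RingHom.ker m.toRingHom).comap (algebraMap B (T ⊗[B] T)) = q.asIdeal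
        rw [RingHom.comap_ker, AlgHom.toRingHom_eq_coe, AlgHom.comp_algebraMap]
        exact hq)
    have : (⟨RingHom.ker m.toRingHom, inferInstance⟩ : PrimeSpectrum (T ⊗[B] T)) ∈
        PrimeSpectrum.zeroLocus (diffs B T) := by
      by_contra hn
      exact h ⟨_, hn, hJ⟩
    have h0 : m (x ⊗ₜ[B] (1 : T) - (1 : T) ⊗ₜ x) = 0 := this ⟨x, rfl⟩
    simpa [m, fa, ga, sub_eq_zero] using h0

theorem exists_common_extension {k L L' : Type u} [Field k] [Field L] [Field L'] [Algebra k L] [Algebra k L'] :
    ∃ (K : Type u) (_ : Field K) (i : L →+* K) (i' : L' →+* K), ∀ c : k, i (algebraMap k L c) = i' (algebraMap k L' c) := by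
  obtain ⟨M, hM⟩ := Ideal.exists_maximal (L ⊗[k] L')
  exact ⟨(L ⊗[k] L') ⧸ M, Ideal.Quotient.field M,
    (Ideal.Quotient.mk M).comp (Algebra.TensorProduct.includeLeft (R := k) (S := k) (B := L')).toRingHom,
    (Ideal.Quotient.mk M).comp (Algebra.TensorProduct.includeRight (R := k) (A := L)).toRingHom,
    fun c => congrArg (Ideal.Quotient.mk M)
      ((Algebra.TensorProduct.includeRight (R := k) (A := L) (B := L')).commutes c).symm⟩

theorem radicAt_iff_crit (q : Ideal B) [q.IsPrime] :
    ((∀ Q Q' : Ideal T, Q.IsPrime → Q'.IsPrime → Q.comap (algebraMap B T) = q →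
        Q'.comap (algebraMap B T) = q → Q = Q') ∧
      ∀ Q : Ideal T, Q.IsPrime → Q.comap (algebraMap B T) = q → ∀ x : T, ∃ (n : ℕ) (a s : B),
        s ∉ q ∧ algebraMap B T s * x ^ ringExpChar q.ResidueField ^ n - algebraMap B T a ∈ Q) ↔
      RadicAt B T q := by
  obtain ⟨e, he⟩ := ExpChar.exists q.ResidueField
  haveI := he
  rw [ringExpChar.eq q.ResidueField e]
  constructor
  · rintro ⟨hinj, hins⟩ K _ f g hfg hq
    haveI := RingHom.ker_isPrime f
    haveI := RingHom.ker_isPrime g
    have hQ : (RingHom.ker f).comap (algebraMap B T) = q := by rw [RingHom.comap_ker, hq]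
    have hQ' : (RingHom.ker g).comap (algebraMap B T) = q := by rw [RingHom.comap_ker, ← hfg, hq]
    have hker := hinj _ _ (RingHom.ker_isPrime f) (RingHom.ker_isPrime g) hQ hQ'
    let ι : q.ResidueField →+* K := Ideal.ResidueField.lift q (f.comp (algebraMap B T)) hq.ge
      (fun s hs => isUnit_iff_ne_zero.2 fun h0 => hs (hq ▸ h0))
    haveI : ExpChar K e := expChar_of_injective_ringHom ι.injective e
    refine RingHom.ext fun x => ?_
    obtain ⟨n, a, s, hs, hmem⟩ := hins (RingHom.ker f) inferInstance hQ x
    have e1 : f (algebraMap B T s) * f x ^ e ^ n = f (algebraMap B T a) := by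
      rwa [RingHom.mem_ker, map_sub, map_mul, map_pow, sub_eq_zero] at hmem
    have e2 : g (algebraMap B T s) * g x ^ e ^ n = g (algebraMap B T a) := by
      rw [hker] at hmem
      rwa [RingHom.mem_ker, map_sub, map_mul, map_pow, sub_eq_zero] at hmem
    have hs' : f (algebraMap B T s) ≠ 0 := fun h0 => hs (hQ ▸ h0)
    rw [show g (algebraMap B T s) = f (algebraMap B T s) from (RingHom.congr_fun hfg s).symm,
      show g (algebraMap B T a) = f (algebraMap B T a) from (RingHom.congr_fun hfg a).symm, ← e1] at e2
    exact (iterateFrobenius_inj K e n (mul_left_cancel₀ hs' e2)).symm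
  · intro h
    refine ⟨fun Q Q' hQ hQ' eQ eQ' => ?_, fun Q hQ eQ b => ?_⟩
    · let ψ := Ideal.ResidueField.map q Q (algebraMap B T) eQ.symm
      let ψ' := Ideal.ResidueField.map q Q' (algebraMap B T) eQ'.symm
      obtain ⟨K', _, i, i', hii⟩ := @exists_common_extension _ _ _ _ _ _ ψ.toAlgebra ψ'.toAlgebra
      let f := i.comp (algebraMap T Q.ResidueField)
      let g := i'.comp (algebraMap T Q'.ResidueField)
      have hkf : RingHom.ker f = Q := by
        rw [← RingHom.comap_ker, (RingHom.injective_iff_ker_eq_bot i).1 i.injective]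
        exact Ideal.ker_algebraMap_residueField Q
      have hkg : RingHom.ker g = Q' := by
        rw [← RingHom.comap_ker, (RingHom.injective_iff_ker_eq_bot i').1 i'.injective]
        exact Ideal.ker_algebraMap_residueField Q'
      have hfg : f = g := h _ f g (RingHom.ext fun c => by
        have : i (ψ (algebraMap B q.ResidueField c)) = i' (ψ' (algebraMap B q.ResidueField c)) := hii _
        rwa [Ideal.ResidueField.map_algebraMap, Ideal.ResidueField.map_algebraMap] at this)
        (by rw [← RingHom.comap_ker, hkf, eQ])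
      rw [← hkf, hfg, hkg]
    · subst eQ
      let ψ := Ideal.ResidueField.map (Q.comap (algebraMap B T)) Q (algebraMap B T) rfl
      let _ : Algebra (Q.comap (algebraMap B T)).ResidueField Q.ResidueField := ψ.toAlgebra
      have : IsPurelyInseparable (Q.comap (algebraMap B T)).ResidueField Q.ResidueField := by
        rw [isPurelyInseparable_iff_subsingleton_emb, subsingleton_iff]
        intro σ₁ σ₂
        apply AlgHom.coe_ringHom_injective
        refine Ideal.ResidueField.ringHom_ext ?_
        refine h _ _ _ (RingHom.ext fun a => ?_) ?_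
        · change σ₁ (algebraMap T Q.ResidueField (algebraMap B T a)) = σ₂ (algebraMap T Q.ResidueField (algebraMap B T a))
          rw [← Ideal.ResidueField.map_algebraMap (Q.comap (algebraMap B T)) Q (algebraMap B T) rfl a]
          exact (σ₁.commutes _).trans (σ₂.commutes _).symm
        · have hbot : ∀ j : Q.ResidueField →+* AlgebraicClosure Q.ResidueField, RingHom.ker j = ⊥ :=
            fun j => (RingHom.injective_iff_ker_eq_bot j).1 j.injective
          rw [← RingHom.comap_ker, ← RingHom.comap_ker, hbot]
          exact congrArg (Ideal.comap (algebraMap B T)) (Ideal.ker_algebraMap_residueField Q)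
      obtain ⟨n, z, hz⟩ := IsPurelyInseparable.pow_mem (Q.comap (algebraMap B T)).ResidueField e
        (algebraMap T Q.ResidueField b)
      rw [← map_pow] at hz
      obtain ⟨a, s, hs, hdiv⟩ := GrothLib.UHTower.exists_div_eq (Q.comap (algebraMap B T)) z
      exact ⟨n, a, s, hs, (GrothLib.UHTower.residueField_map_eq_iff Q z _).1 hz a s hs hdiv⟩

/-- The irreducible case. -/
theorem isConstructible_setOf_isGeomUnibranch (B : Type u) [CommRing B] [IsNoetherianRing B]
    [hn : (nilradical B).IsPrime] [Module.Finite (CAlg2.red B) (CAlg2.normRed B)] :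
    IsConstructible {q : PrimeSpectrum B | CAlg2.IsGeomUnibranch (Localization.AtPrime q.asIdeal)} := by
  haveI : IsDomain (CAlg2.red B) := Ideal.Quotient.isDomain (nilradical B)
  haveI := GrothLib.GeomUnib5.isIntegrallyClosed_normRed (B := B)
  let T := CAlg2.normRed B
  let φ := algebraMap B T
  have hker : RingHom.ker φ = nilradical B := le_antisymm
    (fun b hb => GrothLib.GeomUnib5.isNilpotent_of_algebraMap_normRed b hb)
    (fun b hb => (IsNilpotent.map hb φ).eq_zero)
  have hint : φ.IsIntegral := fun t => GrothLib.GeomUnib5.isIntegral_normRed t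
  haveI : Module.Finite B (CAlg2.red B) := Module.Finite.quotient B _
  haveI : Module.Finite B T := Module.Finite.trans (CAlg2.red B) T
  haveI : IsNoetherianRing (T ⊗[B] T) := IsNoetherianRing.of_finite B (T ⊗[B] T)
  have hfp : RingHom.FinitePresentation (A := B) (B := T ⊗[B] T) (algebraMap B (T ⊗[B] T)) := by
    rw [RingHom.finitePresentation_algebraMap]
    exact ((Algebra.FinitePresentation.of_finiteType (R := B) (A := T ⊗[B] T)).1 inferInstance)
  have heq : {q : PrimeSpectrum B | CAlg2.IsGeomUnibranch (Localization.AtPrime q.asIdeal)} =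
      (PrimeSpectrum.comap (algebraMap B (T ⊗[B] T)) '' (PrimeSpectrum.zeroLocus (diffs B T))ᶜ)ᶜ := by
    ext q
    exact (GrothLib.GeomUnib.isGeomUnibranch_localization_iff φ hker hint
      GrothLib.GeomUnib5.exists_fraction_normRed q.asIdeal).trans
      ((radicAt_iff_crit (T := T) q.asIdeal).trans (radicAt_iff q))
  rw [heq]
  refine IsConstructible.compl (PrimeSpectrum.isConstructible_comap_image hfp ?_)
  exact (TopologicalSpace.NoetherianSpace.isCompact _).isConstructible (PrimeSpectrum.isClosed_zeroLocus _).isOpen_compl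

end GrothLib.GeomUnibConstr
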