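import Groth.Agent.Lib.GeomUnibConstr.Ring
import Groth.Agent.Lib.GeomUnib.Affine
import Mathlib.AlgebraicGeometry.Noetherian

/-! # The geometrically unibranch locus of a locally Noetherian scheme -/

set_option autoImplicit false
set_option backward.isDefEq.respectTransparency false
universe u

open CategoryTheory AlgebraicGeometry TopologicalSpace Topology
open scoped Set.Notation

namespace GrothLib.GeomUnibConstr

/-- A geometrically unibranch point has a basic neighbourhood with irreducible spectrum. -/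
theorem exists_away {A : Type u} [CommRing A] [IsNoetherianRing A] (q : Ideal A) [q.IsPrime]
    (h : CAlg2.IsGeomUnibranch (Localization.AtPrime q)) :
    ∃ f : A, f ∉ q ∧ ∀ (A' : Type u) [CommRing A'] [Algebra A A'] [IsLocalization.Away f A'],
      (nilradical A').IsPrime := by
  classical
  have hdom : IsDomain (CAlg2.red (Localization.AtPrime q)) := h.1.1
  have hP : (nilradical (Localization.AtPrime q)).IsPrime := (Ideal.Quotient.isDomain_iff_prime _).1 hdom
  let p : Ideal A := (nilradical (Localization.AtPrime q)).comap (algebraMap A (Localization.AtPrime q))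
  haveI : p.IsPrime := hP.comap _
  have hpq : p ≤ q := by
    refine le_trans (Ideal.comap_mono (nilradical_le_prime (IsLocalRing.maximalIdeal _))) ?_
    exact (IsLocalization.AtPrime.under_maximalIdeal _ q).le
  have key : ∀ x ∈ p, ∃ s : A, s ∉ q ∧ IsNilpotent (s * x) := fun x hx => by
    obtain ⟨n, hn⟩ := mem_nilradical.1 (show algebraMap A (Localization.AtPrime q) x ∈ nilradical _ from hx)
    rw [← map_pow] at hn
    obtain ⟨⟨s, hs⟩, hsx⟩ := (IsLocalization.map_eq_zero_iff q.primeCompl _ _).1 hn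
    refine ⟨s, hs, n + 1, ?_⟩
    rw [mul_pow, pow_succ s, pow_succ x]
    linear_combination (s ^ n * x) * hsx
  obtain ⟨t, ht⟩ := IsNoetherian.noetherian p
  choose s hsq hsn using fun x : t => key x.1 (ht ▸ Submodule.subset_span x.2)
  refine ⟨∏ x, s x, fun hm => ?_, fun A' _ _ _ => ?_⟩
  · obtain ⟨x, -, hx⟩ := (‹q.IsPrime›.prod_mem_iff).1 hm
    exact hsq x hx
  set f := ∏ x, s x
  have hfp : f ∉ p := fun hm => by
    obtain ⟨x, -, hx⟩ := (‹q.IsPrime›.prod_mem_iff).1 (hpq hm)
    exact hsq x hx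
  have hfq : f ∈ q.primeCompl := fun hm => by
    obtain ⟨x, -, hx⟩ := (‹q.IsPrime›.prod_mem_iff).1 hm
    exact hsq x hx
  have hnil : ∀ x ∈ p, IsNilpotent (f * x) := by
    intro x hx
    have hle : p ≤ Submodule.comap (LinearMap.mulLeft A f) (nilradical A) := by
      rw [← ht, Submodule.span_le]
      intro y hy
      show f * y ∈ nilradical A
      rw [show f = (∏ z ∈ Finset.univ.erase ⟨y, hy⟩, s z) * s ⟨y, hy⟩ from
        (Finset.prod_erase_mul _ _ (Finset.mem_univ _)).symm, mul_assoc]
      exact Ideal.mul_mem_left _ _ (mem_nilradical.2 (hsn ⟨y, hy⟩))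
    exact mem_nilradical.1 (hle hx)
  have hmap : nilradical A' = p.map (algebraMap A A') := by
    refine le_antisymm (fun z hz => ?_) (Ideal.map_le_iff_le_comap.2 fun x hx => ?_)
    · obtain ⟨a, ⟨_, k, rfl⟩, rfl⟩ := IsLocalization.exists_mk'_eq (Submonoid.powers f) z
      have h1 : IsNilpotent (algebraMap A A' a) := by
        rw [← IsLocalization.mk'_spec A' a (⟨f ^ k, k, rfl⟩ : Submonoid.powers f)]
        exact Commute.isNilpotent_mul_right (Commute.all _ _) (mem_nilradical.1 hz)
      obtain ⟨n, hn⟩ := h1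
      rw [← map_pow, IsLocalization.map_eq_zero_iff (Submonoid.powers f)] at hn
      obtain ⟨⟨_, j, rfl⟩, hj⟩ := hn
      have : a ^ n ∈ p := by
        refine ((‹p.IsPrime›.mem_or_mem (x := f ^ j) (y := a ^ n) ?_).resolve_left fun hc =>
          hfp (‹p.IsPrime›.mem_of_pow_mem j hc))
        exact (show f ^ j * a ^ n = 0 from hj) ▸ p.zero_mem
      rw [IsLocalization.mk'_eq_mul_mk'_one]
      exact Ideal.mul_mem_right _ _ (Ideal.mem_map_of_mem _ (‹p.IsPrime›.mem_of_pow_mem n this))
    · have := (hnil x hx).map (algebraMap A A')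
      rw [map_mul] at this
      obtain ⟨w, hw⟩ := (IsLocalization.map_units A' (⟨f, 1, pow_one f⟩ : Submonoid.powers f))
      show algebraMap A A' x ∈ nilradical A'
      rw [mem_nilradical, show algebraMap A A' x = (↑w⁻¹ : A') * (algebraMap A A' f * algebraMap A A' x) by
        rw [← mul_assoc, ← show (↑w : A') = algebraMap A A' f from hw, Units.inv_mul, one_mul]]
      exact Commute.isNilpotent_mul_left (Commute.all _ _) this
  rw [hmap]
  exact IsLocalization.isPrime_of_isPrime_disjoint (Submonoid.powers f) A' p inferInstance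
    (Set.disjoint_left.2 fun y ⟨k, hk⟩ hy => hfp (‹p.IsPrime›.mem_of_pow_mem k (by subst hk; exact hy)))

theorem isLocallyConstructible_setOf_isGeomUnibranch (X : Scheme.{u}) [IsLocallyNoetherian X]
    (hfin : ∀ U : X.affineOpens, Module.Finite (CAlg2.red Γ(X, U.1)) (CAlg2.normRed Γ(X, U.1))) :
    IsLocallyConstructible {x : X | CAlg2.IsGeomUnibranch (X.presheaf.stalk x)} := by
  classical
  intro x
  obtain ⟨_, ⟨U, hU, rfl⟩, hxU, -⟩ :=
    X.isBasis_affineOpens.exists_subset_of_mem_open (Set.mem_univ x) isOpen_univ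
  refine ⟨U, U.2.mem_nhds hxU, U.2, ?_⟩
  haveI : IsNoetherianRing Γ(X, U) := IsLocallyNoetherian.component_noetherian ⟨U, hU⟩
  let A := Γ(X, U)
  let S : Set (PrimeSpectrum A) := {q | CAlg2.IsGeomUnibranch (Localization.AtPrime q.asIdeal)}
  let F : Set A := {f | ∀ (A' : Type u) [CommRing A'] [Algebra A A'] [IsLocalization.Away f A'],
    (nilradical A').IsPrime}
  have hS : S ⊆ ⋃ f : F, (PrimeSpectrum.basicOpen f.1 : Set (PrimeSpectrum A)) := fun q hq => by
    obtain ⟨f, hf, hF⟩ := exists_away q.asIdeal hq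
    exact Set.mem_iUnion.2 ⟨⟨f, hF⟩, hf⟩
  obtain ⟨t, ht⟩ := (NoetherianSpace.isCompact S).elim_finite_subcover _
    (fun f : F => (PrimeSpectrum.basicOpen f.1).isOpen) hS
  have hconstr : IsConstructible S := by
    have hS' : S = ⋃ f ∈ (t : Set F), S ∩ (PrimeSpectrum.basicOpen f.1 : Set (PrimeSpectrum A)) := by
      ext q
      simp only [Set.mem_iUnion, Set.mem_inter_iff, exists_prop]
      exact ⟨fun hq => by
        obtain ⟨f, hf, hqf⟩ := by simpa only [Set.mem_iUnion, exists_prop] using ht hq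
        exact ⟨f, hf, hq, hqf⟩, fun ⟨_, _, hq, _⟩ => hq⟩
    rw [hS']
    refine IsConstructible.biUnion t.finite_toSet fun f _ => ?_
    let V : X.affineOpens := ⟨X.basicOpen f.1, hU.basicOpen f.1⟩
    letI : Algebra A Γ(X, V.1) := (X.presheaf.map (homOfLE (X.basicOpen_le f.1)).op).hom.toAlgebra
    haveI : IsLocalization.Away f.1 Γ(X, V.1) := hU.isLocalization_basicOpen f.1
    haveI : (nilradical Γ(X, V.1)).IsPrime := f.2 _
    haveI := hfin V
    haveI : IsNoetherianRing Γ(X, V.1) := IsLocallyNoetherian.component_noetherian V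
    let g := Spec.map (CommRingCat.ofHom (algebraMap A Γ(X, V.1)))
    haveI : IsOpenImmersion g := IsOpenImmersion.of_isLocalization f.1
    have hemb : IsOpenEmbedding (PrimeSpectrum.comap (algebraMap A Γ(X, V.1))) := g.isOpenEmbedding
    have hrange : Set.range (PrimeSpectrum.comap (algebraMap A Γ(X, V.1))) =
        (PrimeSpectrum.basicOpen f.1 : Set (PrimeSpectrum A)) :=
      PrimeSpectrum.localization_away_comap_range Γ(X, V.1) f.1
    have hiff : ∀ w : Spec Γ(X, V.1), CAlg2.IsGeomUnibranch (Localization.AtPrime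
          (PrimeSpectrum.comap (algebraMap A Γ(X, V.1)) w).asIdeal) ↔
        CAlg2.IsGeomUnibranch (Localization.AtPrime w.asIdeal) := fun w =>
      ((GrothLib.GeomUnib.isGeomUnibranch_stalk_spec_iff (R := A) (g w)).symm.trans
        (GrothLib.GeomUnib.isGeomUnibranch_stalk_openImmersion_iff g w)).trans
        (GrothLib.GeomUnib.isGeomUnibranch_stalk_spec_iff w)
    have himg : S ∩ (PrimeSpectrum.basicOpen f.1 : Set (PrimeSpectrum A)) =
        PrimeSpectrum.comap (algebraMap A Γ(X, V.1)) ''
          {w | CAlg2.IsGeomUnibranch (Localization.AtPrime w.asIdeal)} := by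
      rw [← hrange]
      ext q
      constructor
      · rintro ⟨hq, w, rfl⟩
        exact ⟨w, (hiff w).1 hq, rfl⟩
      · rintro ⟨w, hw, rfl⟩
        exact ⟨(hiff w).2 hw, w, rfl⟩
    rw [himg]
    exact (isConstructible_setOf_isGeomUnibranch Γ(X, V.1)).image_of_isOpenEmbedding hemb
      (fun s _ _ => NoetherianSpace.isCompact _)
  let j : PrimeSpectrum A → (U : Set X) := fun w => ⟨hU.fromSpec w, hU.range_fromSpec ▸ ⟨w, rfl⟩⟩
  have hj : IsOpenEmbedding j :=
    IsOpenEmbedding.of_comp j U.2.isOpenEmbedding_subtypeVal (hU.fromSpec.isOpenEmbedding)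
  have hsurj : Function.Surjective j := fun ⟨y, hy⟩ => by
    obtain ⟨w, hw⟩ := hU.range_fromSpec.symm ▸ hy
    exact ⟨w, Subtype.ext hw⟩
  have hfinal : ((U : Set X) ↓∩ {x : X | CAlg2.IsGeomUnibranch (X.presheaf.stalk x)}) = j '' S := by
    ext y
    obtain ⟨w, rfl⟩ := hsurj y
    rw [hj.injective.mem_set_image]
    exact (GrothLib.GeomUnib.isGeomUnibranch_stalk_openImmersion_iff hU.fromSpec w).trans
      (GrothLib.GeomUnib.isGeomUnibranch_stalk_spec_iff (R := A) w)
  rw [hfinal]
  exact hconstr.image_of_isOpenEmbedding hj (fun s hs _ => by rwa [hsurj.range_eq, Set.univ_inter])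

end GrothLib.GeomUnibConstr
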